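import Groth.Agent.BrownPlus.Basic
import Mathlib

/-!
A right derived functor on unbounded derived categories which is computed by direct sums of K-injective
complexes preserves direct sums, and is a left adjoint.
-/

set_option autoImplicit false
set_option backward.isDefEq.respectTransparency false
set_option backward.isDefEq.respectTransparency.types false
set_option linter.style.haveILetI false
set_option linter.unusedSectionVars false
set_option maxHeartbeats 1000000

universe w w' v u₁ u₂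

open CategoryTheory CategoryTheory.Limits CategoryTheory.Pretriangulated Opposite DerivedCategory

noncomputable section

namespace Groth.Agent.BrownUnb

/-- being a left adjoint does not depend on the choice of the localized categories -/
theorem transfer {KA KB DA DA' DB DB' : Type*} [Category* KA] [Category* KB] [Category* DA] [Category* DA']
    [Category* DB] [Category* DB'] (WA : MorphismProperty KA) (WB : MorphismProperty KB)
    (L : KA ⥤ DA) (L' : KA ⥤ DA') [L.IsLocalization WA] [L'.IsLocalization WA]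
    (M : KB ⥤ DB) (M' : KB ⥤ DB') [M.IsLocalization WB] [M'.IsLocalization WB]
    (P : KA ⥤ KB) (C : ObjectProperty KA)
    (hd : KInj.IsDeforming L (P ⋙ M) C) (hd' : KInj.IsDeforming L' (P ⋙ M') C)
    (RF : DA ⥤ DB) (α : P ⋙ M ⟶ L ⋙ RF) [RF.IsRightDerivedFunctor α WA]
    (RF' : DA' ⥤ DB') (α' : P ⋙ M' ⟶ L' ⋙ RF') [RF'.IsRightDerivedFunctor α' WA]
    (h : RF.IsLeftAdjoint) : RF'.IsLeftAdjoint := by
  let eA := Localization.uniq L L' WA
  let eB := Localization.uniq M M' WB
  let cA : L ⋙ eA.functor ≅ L' := Localization.compUniqFunctor L L' WA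
  let cB : M ⋙ eB.functor ≅ M' := Localization.compUniqFunctor M M' WB
  let jA : L ≅ L' ⋙ eA.inverse := (Localization.compUniqInverse L L' WA).symm
  let Φ : DA' ⥤ DB' := eA.inverse ⋙ RF ⋙ eB.functor
  let β : P ⋙ M' ⟶ L' ⋙ Φ :=
    Functor.whiskerLeft P cB.inv ≫ (Functor.associator _ _ _).inv ≫ Functor.whiskerRight α eB.functor ≫
      (Functor.associator _ _ _).hom ≫ Functor.whiskerRight jA.hom (RF ⋙ eB.functor) ≫ (Functor.associator _ _ _).hom
  let γ : RF' ⟶ Φ := RF'.rightDerivedDesc α' WA Φ β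
  haveI : ∀ D, IsIso (γ.app D) := fun D => by
    obtain ⟨I, hI, ⟨e⟩⟩ := hd'.res D
    refine (NatTrans.isIso_app_iff_of_iso γ e).2 ?_
    haveI := hd'.isIso_app WA RF' α' hI
    haveI := hd.isIso_app WA RF α hI
    haveI : IsIso (β.app I) := by
      haveI : IsIso ((Functor.whiskerRight α eB.functor).app I) := inferInstanceAs (IsIso (eB.functor.map (α.app I)))
      simp only [β, NatTrans.comp_app]
      infer_instance
    exact IsIso.of_isIso_fac_left (RF'.rightDerived_fac_app α' WA Φ β I)
  haveI : IsIso γ := NatIso.isIso_of_isIso_app γ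
  haveI := h
  haveI : Φ.IsLeftAdjoint := inferInstanceAs ((eA.inverse ⋙ RF ⋙ eB.functor).IsLeftAdjoint)
  exact Functor.isLeftAdjoint_of_iso (asIso γ).symm

variable {A : Type u₁} [Category.{v} A] [Abelian A] [IsGrothendieckAbelian.{v} A]
  {B : Type u₂} [Category.{v} B] [Abelian B] [IsGrothendieckAbelian.{v} B]
  (F : A ⥤ B) [F.Additive] {G : B ⥤ A} [G.Additive] [PreservesFiniteLimits G] (adj : G ⊣ F)
  (hcop : ∀ T : Type v, PreservesColimitsOfShape (Discrete T) F)
  (hqi : ∀ (T : Type v) (I : T → CochainComplex A ℤ), (∀ t k, Injective ((I t).X k)) →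
    ∀ (K : CochainComplex A ℤ), K.IsKInjective → (∀ k, Injective (K.X k)) → ∀ (s : ∐ I ⟶ K),
      QuasiIso s → QuasiIso ((F.mapHomologicalComplex (ComplexShape.up ℤ)).map s))

section Coprod

variable [HasDerivedCategory.{w} A] [HasDerivedCategory.{w'} B]
  (RF : DerivedCategory A ⥤ DerivedCategory B)
  (α : F.mapHomotopyCategory (ComplexShape.up ℤ) ⋙ Qh ⟶ Qh ⋙ RF)
  [RF.IsRightDerivedFunctor α (HomotopyCategory.quasiIso A (ComplexShape.up ℤ))]

include hcop hqi α in
/-- `RF` preserves direct sums -/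
theorem preservesCoproducts_RF (T : Type v) : PreservesColimitsOfShape (Discrete T) RF := by
  haveI := hcop T
  refine ⟨fun {K} => ?_⟩
  have hrep : ∀ t : T, ∃ I : CochainComplex A ℤ, I.IsKInjective ∧ (∀ k, Injective (I.X k)) ∧
      Nonempty (Q.obj I ≅ K.obj ⟨t⟩) := fun t => by
    obtain ⟨I, s, hI, hs, -, hinj⟩ := KInj.exists_kInjective ((Q (C := A)).objPreimage (K.obj ⟨t⟩))
    haveI := hs
    exact ⟨I, hI, hinj, ⟨(asIso (Q.map s)).symm ≪≫ Q.objObjPreimageIso (K.obj ⟨t⟩)⟩⟩
  choose I hK hI he using hrep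
  let FC := F.mapHomologicalComplex (ComplexShape.up ℤ)
  haveI : PreservesColimitsOfShape (Discrete T) FC :=
    ⟨fun {D} => ⟨fun hc => ⟨HomologicalComplex.isColimitOfEval _ _ fun k =>
      isColimitOfPreserves (HomologicalComplex.eval A (ComplexShape.up ℤ) k ⋙ F) hc⟩⟩⟩
  let w := AcycDef.unitQ F RF α
  haveI : ∀ t, IsIso (w.app (I t)) := fun t => haveI := hK t; AcycDef.isIso_unitQ_kInj F RF α (I t)
  haveI : IsIso (w.app (∐ I)) := by
    obtain ⟨J, s, hJ, hs, -, hJi⟩ := KInj.exists_kInjective (∐ I)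
    haveI := hJ
    haveI := hs
    exact AcycDef.isIso_unitQ_of_quasiIso F RF α s (hqi T I hI J hJ hJi s hs)
  obtain ⟨hQ⟩ := DQCoh.nonempty_isColimit_Q_coprod (BrownDerived.hKinj (B := A)) I
  obtain ⟨hQ'⟩ := DQCoh.nonempty_isColimit_Q_coprod (BrownDerived.hKinj (B := B)) fun t => FC.obj (I t)
  haveI : PreservesColimit (Discrete.functor fun t => Q.obj (I t)) RF := by
    refine preservesColimit_of_preserves_colimit_cocone hQ ((IsColimit.precomposeHomEquiv
      (Discrete.natIso fun t => asIso (w.app (I t.as)) :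
        Discrete.functor (fun t => Q.obj (FC.obj (I t))) ≅ Discrete.functor (fun t => Q.obj (I t)) ⋙ RF) _).1 ?_)
    refine IsColimit.ofIsoColimit hQ' (Cocone.ext (Q.mapIso (PreservesCoproduct.iso FC I).symm ≪≫
      asIso (w.app (∐ I))) fun t => ?_)
    have h1 : Sigma.ι (fun t => FC.obj (I t)) t.as ≫ (PreservesCoproduct.iso FC I).inv = FC.map (Sigma.ι I t.as) := by
      simp [PreservesCoproduct.iso]
    change Q.map (Sigma.ι (fun t => FC.obj (I t)) t.as) ≫ (Q.map (PreservesCoproduct.iso FC I).inv ≫ w.app (∐ I)) =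
      w.app (I t.as) ≫ RF.map (Q.map (Sigma.ι I t.as))
    rw [← Functor.map_comp_assoc, h1]
    exact w.naturality (Sigma.ι I t.as)
  exact preservesColimit_of_iso_diagram _
    (Discrete.natIso fun t => (he t.as).some : Discrete.functor (fun t => Q.obj (I t)) ≅ K)

end Coprod

include adj hcop hqi in
theorem isLeftAdjoint_small [HasDerivedCategory.{v} A] [HasDerivedCategory.{v} B]
    (RF : DerivedCategory A ⥤ DerivedCategory B)
    (α : F.mapHomotopyCategory (ComplexShape.up ℤ) ⋙ Qh ⟶ Qh ⋙ RF)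
    [RF.IsRightDerivedFunctor α (HomotopyCategory.quasiIso A (ComplexShape.up ℤ))] : RF.IsLeftAdjoint := by
  haveI : PreservesFiniteColimits G :=
    haveI : G.IsLeftAdjoint := adj.isLeftAdjoint
    inferInstance
  obtain ⟨a⟩ := KInj.nonempty_adj_Qh adj (BrownDerived.hKinj (B := A)) RF α
  letI := a.rightAdjointCommShift ℤ
  haveI := a.commShift_of_leftAdjoint ℤ
  haveI := a.isTriangulated_rightAdjoint
  haveI := fun T : Type v => preservesCoproducts_RF F hcop hqi RF α T
  haveI : HasCoproducts.{v} (DerivedCategory A) := BrownDerived.hasCoproducts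
  haveI := Brown.hasColimitsOfShape_nat (D := DerivedCategory A)
  exact Brown.isLeftAdjoint_of_isRepresentable RF fun Y =>
    BrownDerived.isRepresentable (Brown.isBrown_yoneda RF Y)

include adj hcop hqi in
/-- **`RF` has a right adjoint**, for any choice of the derived categories -/
theorem isLeftAdjoint_RF [hA : HasDerivedCategory.{w} A] [hB : HasDerivedCategory.{w'} B]
    (RF : DerivedCategory A ⥤ DerivedCategory B)
    (α : F.mapHomotopyCategory (ComplexShape.up ℤ) ⋙ Qh ⟶ Qh ⋙ RF)
    [RF.IsRightDerivedFunctor α (HomotopyCategory.quasiIso A (ComplexShape.up ℤ))] : RF.IsLeftAdjoint := by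
  let L' : HomotopyCategory A (ComplexShape.up ℤ) ⥤ DerivedCategory A := Qh
  let M' : HomotopyCategory B (ComplexShape.up ℤ) ⥤ DerivedCategory B := Qh
  have hd' := KInj.isDeforming_Qh (BrownDerived.hKinj (B := A)) (F.mapHomotopyCategory (ComplexShape.up ℤ) ⋙ M')
  let hA0 := BrownDerived.smallDerived A
  let hB0 := BrownDerived.smallDerived B
  let L : HomotopyCategory A (ComplexShape.up ℤ) ⥤ @DerivedCategory A _ _ hA0 := @Qh A _ _ hA0
  let M : HomotopyCategory B (ComplexShape.up ℤ) ⥤ @DerivedCategory B _ _ hB0 := @Qh B _ _ hB0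
  let P := F.mapHomotopyCategory (ComplexShape.up ℤ)
  have hd := @KInj.isDeforming_Qh A _ _ hA0 _ _ (BrownDerived.hKinj (B := A)) (P ⋙ M)
  haveI : (P ⋙ M).HasRightDerivedFunctor (HomotopyCategory.quasiIso A (ComplexShape.up ℤ)) :=
    hd.hasRightDerivedFunctor _
  exact transfer (HomotopyCategory.quasiIso A (ComplexShape.up ℤ)) (HomotopyCategory.quasiIso B (ComplexShape.up ℤ))
    L L' M M' P _ hd hd' ((P ⋙ M).totalRightDerived L (HomotopyCategory.quasiIso A (ComplexShape.up ℤ)))
    ((P ⋙ M).totalRightDerivedUnit L (HomotopyCategory.quasiIso A (ComplexShape.up ℤ))) RF α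
    (@isLeftAdjoint_small A _ _ _ B _ _ _ F _ G _ _ adj hcop hqi hA0 hB0
      ((P ⋙ M).totalRightDerived L (HomotopyCategory.quasiIso A (ComplexShape.up ℤ)))
      ((P ⋙ M).totalRightDerivedUnit L (HomotopyCategory.quasiIso A (ComplexShape.up ℤ))) inferInstance)

end Groth.Agent.BrownUnb
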